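import Groth.Agent.PropsBasic.FPSections
import Groth.Agent.Flatmor4.FPSections
import Mathlib

/-!
# Presentations with prescribed index sets

`Pres ι κ R M`: `M` is generated by a family indexed by `ι` with relations indexed by `κ`. The point
is that the index sets glue along a finite standard cover with bounds not depending on the ring, and
that products of modules with such presentations over a fixed pair of finite index sets are finitely
presented over the product ring.
-/

universe u v

open CategoryTheory Limits AlgebraicGeometry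

namespace Groth.FPUniform

/-- A presentation with index sets `ι`, `κ`. -/
def Pres (ι κ : Type u) (R : Type u) [CommRing R] (M : Type u) [AddCommGroup M] [Module R M] : Prop :=
  ∃ (p : (ι → R) →ₗ[R] M) (t : κ → ι → R),
    Function.Surjective p ∧ LinearMap.ker p = Submodule.span R (Set.range t)

theorem Pres.of_equiv {ι κ R : Type u} [CommRing R] {M N : Type u} [AddCommGroup M] [Module R M]
    [AddCommGroup N] [Module R N] (h : Pres ι κ R M) (e : M ≃ₗ[R] N) : Pres ι κ R N := by
  obtain ⟨p, t, hp, ht⟩ := h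
  refine ⟨e.toLinearMap.comp p, t, e.surjective.comp hp, ?_⟩
  rw [LinearMap.ker_comp, LinearEquiv.ker, Submodule.comap_bot, ht]

/-- The cokernel of a map of free modules. -/
theorem pres_quotient_range {R G K : Type u} [CommRing R] [Finite G]
    (g : (K →₀ R) →ₗ[R] (G →₀ R)) : Pres G K R ((G →₀ R) ⧸ LinearMap.range g) := by
  let c : (G →₀ R) ≃ₗ[R] (G → R) := Finsupp.linearEquivFunOnFinite R R G
  refine ⟨(Submodule.mkQ (LinearMap.range g)).comp c.symm.toLinearMap,
    fun j => c (g (Finsupp.single j 1)),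
    (Submodule.mkQ_surjective _).comp c.symm.surjective, ?_⟩
  rw [LinearMap.ker_comp, Submodule.ker_mkQ, ← Submodule.map_equiv_eq_comap_symm,
    LinearMap.range_eq_map, ← (Finsupp.basisSingleOne (R := R) (ι := K)).span_eq,
    Submodule.map_span, Submodule.map_span, ← Set.range_comp, ← Set.range_comp]
  congr 1

set_option backward.isDefEq.respectTransparency false in
set_option maxHeartbeats 1600000 in
/-- The sections of a presented module on `Spec R`. -/
theorem pres_of_presentation {R : CommRingCat.{u}} (N : (Spec R).Modules)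
    (P : N.Presentation) (hP : P.IsFinite) :
    Pres P.generators.I P.relations.I R ((moduleSpecΓFunctor (R := R)).obj N) := by
  haveI := hP
  let g := (tilde.functor R).preimage <| (tildeFinsupp P.relations.I).hom ≫ P.relations.π ≫
    kernel.ι _ ≫ (tildeFinsupp P.generators.I).inv
  let iso : cokernel ((tilde.functor R).map g) ≅ cokernel (P.relations.π ≫ kernel.ι _) := by
    refine cokernel.mapIso _ _ (tildeFinsupp _) (tildeFinsupp _) ?_
    simp only [g, (tilde.functor R).map_preimage]
    simp
  let e : (tilde.functor R).obj (cokernel g) ≅ N := PreservesCokernel.iso (tilde.functor R) g ≪≫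
    iso ≪≫ IsColimit.coconePointUniqueUpToIso (colimit.isColimit _) P.isColimit
  let e' : cokernel g ≅ (moduleSpecΓFunctor (R := R)).obj N :=
    tilde.toTildeΓNatIso.app (cokernel g) ≪≫ (moduleSpecΓFunctor (R := R)).mapIso e
  haveI : Finite P.generators.I := hP.isFiniteType_generators.finite
  exact Pres.of_equiv (pres_quotient_range (R := R) g.hom)
    ((ModuleCat.cokernelIsoRangeQuotient g).toLinearEquiv.symm.trans e'.toLinearEquiv)

open Groth.QCohMod Groth.PropsBasic.FPSections in
set_option backward.isDefEq.respectTransparency false in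
/-- A presentation near an affine open gives a presentation of the sections on it, with the same
index sets. -/
theorem pres_sections_of_presentation {X : Scheme.{u}} (M : X.Modules) {W : X.Opens}
    (P : (M.restrict W.ι).Presentation) (hP : P.IsFinite) {D : X.Opens} (hD : IsAffineOpen D)
    (hDW : D ≤ W) : Pres P.generators.I P.relations.I Γ(X, D) Γ(M, D) := by
  haveI := IsAffineOpen.isOpenImmersion_fromSpec hD
  let j : Spec Γ(X, D) ⟶ W := IsOpenImmersion.lift W.ι hD.fromSpec (by
    rw [Scheme.Opens.range_ι, hD.range_fromSpec]; exact hDW)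
  have hj : j ≫ W.ι = hD.fromSpec := IsOpenImmersion.lift_fac _ _ _
  haveI : IsOpenImmersion (j ≫ W.ι) := hj ▸ inferInstance
  haveI : IsOpenImmersion j := IsOpenImmersion.of_comp j W.ι
  let i : (Scheme.Modules.restrictFunctor j).obj ((Scheme.Modules.restrictFunctor W.ι).obj M) ≅
      (Scheme.Modules.restrictFunctor hD.fromSpec).obj M :=
    (Scheme.Modules.restrictFunctorComp j W.ι).symm.app M ≪≫
      (Scheme.Modules.restrictFunctorCongr hj).app M
  haveI : IsIso (C := SheafOfModules.{u} _) i.hom := inferInstanceAs (IsIso i.hom)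
  let Q : (M.restrict hD.fromSpec).Presentation :=
    SheafOfModules.Presentation.ofIsIso.{u, u, u} i.hom (Scheme.Modules.presentationRestrict j P)
  have hQ : Q.IsFinite :=
    ⟨⟨(hP.isFiniteType_generators.finite : Finite P.generators.I)⟩,
      ⟨(hP.isFiniteType_relations.finite : Finite P.relations.I)⟩⟩
  have h : Pres P.generators.I P.relations.I Γ(X, D)
      ((moduleSpecΓFunctor (R := Γ(X, D))).obj (M.restrict hD.fromSpec)) :=
    pres_of_presentation _ Q hQ
  let e : (moduleSpecΓFunctor (R := Γ(X, D))).obj (M.restrict hD.fromSpec) ≃ₗ[Γ(X, D)] Γ(M, D) :=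
    { topEquiv hD M with
      map_smul' := fun r x => by
        have := secEquiv_smul hD M ⊤ (image_top_fromSpec hD) le_rfl r x
        rw [resFun_self] at this
        exact this }
  exact h.of_equiv e

/-- An element of a module which lies in a submodule after multiplication by powers of elements
generating the unit ideal lies in it. -/
theorem mem_of_forall_exists_pow_smul_mem {J R M : Type*} [CommRing R] [AddCommGroup M] [Module R M]
    (h : J → R) (hh : Ideal.span (Set.range h) = ⊤) (N : Submodule R M) (m : M)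
    (H : ∀ j, ∃ k : ℕ, h j ^ k • m ∈ N) : m ∈ N := by
  have h1 : N.colon {m} = ⊤ := by
    refine Ideal.radical_eq_top.mp (top_le_iff.mp ?_)
    rw [← hh, Ideal.span_le]
    rintro _ ⟨j, rfl⟩
    obtain ⟨k, hk⟩ := H j
    exact ⟨k, Submodule.mem_colon_singleton.mpr hk⟩
  simpa using Submodule.mem_colon_singleton.mp (h1.ge (Submodule.mem_top (x := (1 : R))))

/-- Presentations on a finite standard cover give one with index sets depending only on theirs. -/
theorem Pres.of_span {R M : Type u} [CommRing R] [AddCommGroup M] [Module R M]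
    {J : Type u} [Fintype J] (h : J → R) (hh : Ideal.span (Set.range h) = ⊤)
    (Rj : J → Type u) [∀ j, CommRing (Rj j)] [∀ j, Algebra R (Rj j)]
    [∀ j, IsLocalization.Away (h j) (Rj j)]
    (Mj : J → Type u) [∀ j, AddCommGroup (Mj j)] [∀ j, Module R (Mj j)] [∀ j, Module (Rj j) (Mj j)]
    [∀ j, IsScalarTower R (Rj j) (Mj j)]
    (l : ∀ j, M →ₗ[R] Mj j) [∀ j, IsLocalizedModule (Submonoid.powers (h j)) (l j)]
    (ι κ : J → Type u) [∀ j, Fintype (ι j)] (hpres : ∀ j, Pres (ι j) (κ j) (Rj j) (Mj j)) :
    Pres (Σ j, ι j) (Σ j, ((Σ j', ι j') ⊕ κ j)) R M := by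
  classical
  choose q r hq hr using hpres
  have hlift : ∀ j (y : Mj j), ∃ (k : ℕ) (m : M), h j ^ k • y = l j m := by
    intro j y
    obtain ⟨⟨m, ⟨_, k, rfl⟩⟩, hm⟩ := IsLocalizedModule.surj (Submonoid.powers (h j)) (l j) y
    exact ⟨k, m, hm⟩
  choose kk mm hmm using fun (b : Σ j, ι j) => hlift b.1 (q b.1 (Pi.single b.2 1))
  let p : ((Σ j, ι j) → R) →ₗ[R] M := Fintype.linearCombination R mm
  let pj : ∀ j, ((Σ j', ι j') → Rj j) →ₗ[Rj j] Mj j := fun j =>
    Fintype.linearCombination (Rj j) fun b => l j (mm b)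
  let lP : ∀ j, ((Σ j', ι j') → R) →ₗ[R] ((Σ j', ι j') → Rj j) := fun j =>
    (Algebra.linearMap R (Rj j)).compLeft _
  have hcomp : ∀ j x, pj j (lP j x) = l j (p x) := by
    intro j x
    simp only [pj, p, Fintype.linearCombination_apply, map_sum, map_smul]
    exact Finset.sum_congr rfl fun b _ => algebraMap_smul (Rj j) (x b) _
  have hsplit : ∀ j, ∃ t : (ι j → Rj j) →ₗ[Rj j] ((Σ j', ι j') → Rj j), (pj j).comp t = q j := by
    intro j
    choose u hu using fun a : ι j =>
      (IsLocalization.Away.algebraMap_pow_isUnit (S := Rj j) (h j) (kk ⟨j, a⟩)).exists_left_inv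
    refine ⟨Fintype.linearCombination (Rj j) fun a => u a • Pi.single (⟨j, a⟩ : Σ j', ι j') 1, ?_⟩
    refine LinearMap.pi_ext' fun a => LinearMap.ext_ring ?_
    simp only [LinearMap.comp_apply, LinearMap.single_apply, Fintype.linearCombination_apply_single,
      one_smul, map_smul, pj]
    rw [← hmm ⟨j, a⟩, ← algebraMap_smul (Rj j) (h j ^ kk ⟨j, a⟩), smul_smul, map_pow, hu, one_smul]
  choose t ht using hsplit
  have hsurj : ∀ j, Function.Surjective (pj j) := fun j y => by
    obtain ⟨x, rfl⟩ := hq j y
    exact ⟨t j x, LinearMap.congr_fun (ht j) x⟩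
  choose s hs using fun j => Module.projective_lifting_property (q j) (pj j) (hq j)
  let elt : (c : Σ j, ((Σ j', ι j') ⊕ κ j)) → ((Σ j', ι j') → Rj c.1) := fun c =>
    Sum.elim (fun b => Pi.single b 1 - t c.1 (s c.1 (Pi.single b 1))) (fun d => t c.1 (r c.1 d)) c.2
  have helt : ∀ c, pj c.1 (elt c) = 0 := by
    rintro ⟨j, b | d⟩
    · simp only [elt, Sum.elim_inl, map_sub]
      rw [show pj j (t j _) = q j _ from LinearMap.congr_fun (ht j) _,
        show q j (s j _) = pj j _ from LinearMap.congr_fun (hs j) _, sub_self]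
    · simp only [elt, Sum.elim_inr]
      rw [show pj j (t j _) = q j _ from LinearMap.congr_fun (ht j) _, ← LinearMap.mem_ker, hr j]
      exact Submodule.subset_span ⟨d, rfl⟩
  haveI : ∀ j, IsLocalizedModule (Submonoid.powers (h j)) (lP j) := fun j =>
    IsLocalizedModule.pi (S := Submonoid.powers (h j))
      (fun _ : Σ j', ι j' => Algebra.linearMap R (Rj j))
  have hnum : ∀ c, ∃ (k : ℕ) (x : (Σ j', ι j') → R), p x = 0 ∧ lP c.1 x = h c.1 ^ k • elt c := by
    intro c
    obtain ⟨⟨x, ⟨_, k, rfl⟩⟩, hx⟩ :=
      IsLocalizedModule.surj (Submonoid.powers (h c.1)) (lP c.1) (elt c)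
    change h c.1 ^ k • elt c = lP c.1 x at hx
    have h0 : l c.1 (p x) = 0 := by
      rw [← hcomp, ← hx, LinearMap.map_smul_of_tower, helt, smul_zero]
    obtain ⟨⟨_, n, rfl⟩, hn⟩ :=
      (IsLocalizedModule.eq_zero_iff (Submonoid.powers (h c.1)) (l c.1)).mp h0
    refine ⟨n + k, h c.1 ^ n • x, ?_, ?_⟩
    · rw [map_smul]; exact hn
    · rw [map_smul, ← hx, smul_smul, pow_add]
  choose nn X hX0 hXl using hnum
  refine ⟨p, X, ?_, le_antisymm (fun x hx => ?_) ?_⟩
  · intro m
    refine (mem_of_forall_exists_pow_smul_mem h hh (LinearMap.range p) m fun j => ?_)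
    obtain ⟨z, hz⟩ := hsurj j (l j m)
    obtain ⟨⟨x, ⟨_, k, rfl⟩⟩, hx⟩ := IsLocalizedModule.surj (Submonoid.powers (h j)) (lP j) z
    change h j ^ k • z = lP j x at hx
    have h0 : l j (p x - h j ^ k • m) = 0 := by
      rw [map_sub, ← hcomp, ← hx, LinearMap.map_smul_of_tower, hz, map_smul, sub_self]
    obtain ⟨⟨_, n, rfl⟩, hn⟩ :=
      (IsLocalizedModule.eq_zero_iff (Submonoid.powers (h j)) (l j)).mp h0
    refine ⟨n + k, h j ^ n • x, ?_⟩
    change h j ^ n • (p x - h j ^ k • m) = 0 at hn
    rw [smul_sub, sub_eq_zero, smul_smul, ← pow_add] at hn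
    rw [map_smul, hn]
  · refine mem_of_forall_exists_pow_smul_mem h hh _ x fun j => ?_
    rw [LinearMap.mem_ker] at hx
    have hy : pj j (lP j x) = 0 := by rw [hcomp, hx, map_zero]
    have hmem : lP j x ∈ Submodule.span (Rj j)
        (lP j '' (Submodule.span R (Set.range X) : Set ((Σ j', ι j') → R))) := by
      set N := Submodule.span (Rj j)
        (lP j '' (Submodule.span R (Set.range X) : Set ((Σ j', ι j') → R))) with hN
      have hE : ∀ b : (Σ j', ι j') ⊕ κ j, elt ⟨j, b⟩ ∈ N := by
        intro b
        obtain ⟨u, hu⟩ := (IsLocalization.Away.algebraMap_pow_isUnit (S := Rj j) (h j)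
          (nn ⟨j, b⟩)).exists_left_inv
        have hm : lP j (X ⟨j, b⟩) ∈ N :=
          Submodule.subset_span ⟨_, Submodule.subset_span ⟨⟨j, b⟩, rfl⟩, rfl⟩
        rw [show lP j (X ⟨j, b⟩) = h j ^ nn ⟨j, b⟩ • elt ⟨j, b⟩ from hXl ⟨j, b⟩,
          ← algebraMap_smul (Rj j) (h j ^ nn ⟨j, b⟩), map_pow] at hm
        have := N.smul_mem u hm
        rwa [smul_smul, hu, one_smul] at this
      generalize lP j x = y at hy ⊢
      have h1 : y - t j (s j y) ∈ N := by
        rw [pi_eq_sum_univ' y, map_sum, map_sum, ← Finset.sum_sub_distrib]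
        refine Submodule.sum_mem _ fun b _ => ?_
        rw [map_smul, map_smul, ← smul_sub]
        exact N.smul_mem _ (hE (Sum.inl b))
      have h2 : t j (s j y) ∈ N := by
        have hsy : s j y ∈ Submodule.span (Rj j) (Set.range (r j)) := by
          rw [← hr j, LinearMap.mem_ker]
          exact (LinearMap.congr_fun (hs j) y).trans hy
        refine (Submodule.span_le.mpr ?_ : _ ≤ N.comap (t j)) hsy
        rintro _ ⟨d, rfl⟩
        exact hE (Sum.inr d)
      have := N.add_mem h1 h2
      rwa [sub_add_cancel] at this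
    obtain ⟨_, ⟨k, rfl⟩, n, hn, hnx⟩ :=
      Groth.Flatmor4.exists_smul_mem_span (Submonoid.powers (h j)) (lP j) _ _ hmem
    rw [Submodule.span_eq] at hn
    have h0 : lP j (h j ^ k • x - n) = 0 := by
      rw [map_sub, map_smul, hnx, sub_self]
    obtain ⟨⟨_, m, rfl⟩, hm⟩ :=
      (IsLocalizedModule.eq_zero_iff (Submonoid.powers (h j)) (lP j)).mp h0
    change h j ^ m • (h j ^ k • x - n) = 0 at hm
    rw [smul_sub, sub_eq_zero, smul_smul, ← pow_add] at hm
    exact ⟨m + k, hm ▸ Submodule.smul_mem _ _ hn⟩
  · rw [Submodule.span_le]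
    rintro _ ⟨c, rfl⟩
    exact hX0 c

/-- A product of modules with presentations over fixed finite index sets is finitely presented over
the product ring. -/
theorem finitePresentation_pi {I G K : Type u} [Fintype G] [Fintype K] (R : I → Type u)
    [∀ i, CommRing (R i)] (M : I → Type u) [∀ i, AddCommGroup (M i)] [∀ i, Module (R i) (M i)]
    (h : ∀ i, Pres G K (R i) (M i)) :
    Module.FinitePresentation (∀ i, R i) (∀ i, M i) := by
  classical
  choose p t hp ht using h
  let P : (G → ∀ i, R i) →ₗ[∀ i, R i] ∀ i, M i :=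
    { toFun := fun v i => p i fun g => v g i
      map_add' := fun v w => funext fun i => map_add (p i) (fun g => v g i) (fun g => w g i)
      map_smul' := fun a v => funext fun i => map_smul (p i) (a i) (fun g => v g i) }
  have hP : Function.Surjective P := fun m => by
    choose v hv using fun i => hp i (m i)
    exact ⟨fun g i => v i g, funext hv⟩
  refine Module.finitePresentation_of_surjective P hP ?_
  have hker : LinearMap.ker P =
      Submodule.span (∀ i, R i) (Set.range fun c : K => fun g i => t i c g) := by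
    refine le_antisymm (fun v hv => ?_) (Submodule.span_le.mpr ?_)
    · have hv' : ∀ i, (fun g => v g i) ∈ Submodule.span (R i) (Set.range (t i)) := fun i => by
        rw [← ht i, LinearMap.mem_ker]
        exact congrFun (LinearMap.mem_ker.mp hv) i
      simp_rw [Submodule.mem_span_range_iff_exists_fun] at hv'
      choose a ha using hv'
      rw [Submodule.mem_span_range_iff_exists_fun]
      refine ⟨fun c i => a i c, funext fun g => funext fun i => ?_⟩
      simpa [Finset.sum_apply] using congrFun (ha i) g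
    · rintro _ ⟨c, rfl⟩
      refine LinearMap.mem_ker.mpr (funext fun i => ?_)
      exact LinearMap.mem_ker.mp ((ht i).ge (Submodule.subset_span ⟨c, rfl⟩))
  rw [hker]
  exact Submodule.fg_span (Set.finite_range _)

open Groth.QCohMod Groth.PropsBasic.FPSections in
/-- Presentations on opens covering an affine scheme give one of the module of global sections,
with index sets depending only on those of the given presentations. -/
theorem pres_top_of_cover {T : Scheme.{u}} [IsAffine T] (M : T.Modules) [M.IsQuasicoherent]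
    {J : Type u} [Fintype J] (V : J → T.Opens) (hV : ∀ x, ∃ j, x ∈ V j) (ι κ : J → Type u)
    [∀ j, Fintype (ι j)]
    (hpres : ∀ (j) (D : T.Opens), IsAffineOpen D → D ≤ V j → Pres (ι j) (κ j) Γ(T, D) Γ(M, D)) :
    Pres (Σ j, ι j) (Σ j, ((Σ j', ι j') ⊕ κ j)) Γ(T, ⊤) Γ(M, ⊤) := by
  classical
  have hU : IsAffineOpen (⊤ : T.Opens) := isAffineOpen_top T
  let I : J → Ideal Γ(T, ⊤) := fun j => Ideal.span {g | T.basicOpen g ≤ V j}
  have hI : ⨆ j, I j = ⊤ := by
    rw [← Ideal.span_iUnion, ← hU.iSup_basicOpen_eq_self_iff]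
    refine top_le_iff.mp fun x _ => ?_
    obtain ⟨j, hj⟩ := hV x
    obtain ⟨g, hxg, hg⟩ := exists_basicOpen_mem hU (Set.mem_univ x) hj
    exact TopologicalSpace.Opens.mem_iSup.mpr ⟨⟨g, Set.mem_iUnion.mpr ⟨j, hg⟩⟩, hxg⟩
  obtain ⟨a, ha⟩ := (Submodule.mem_iSup_finset_iff_exists_sum (s := Finset.univ) I (1 : Γ(T, ⊤))).mp
    (by rw [iSup_congr fun j => iSup_pos (Finset.mem_univ j), hI]; trivial)
  let h : J → Γ(T, ⊤) := fun j => (a j : Γ(T, ⊤))
  have hh : Ideal.span (Set.range h) = ⊤ := by
    rw [Ideal.eq_top_iff_one, ← ha]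
    exact Ideal.sum_mem _ fun j _ => Ideal.subset_span ⟨j, rfl⟩
  have hle : ∀ j, T.basicOpen (h j) ≤ V j := by
    intro j x hx
    by_contra hxV
    have hI' : I j ≤ RingHom.ker ((IsLocalRing.residue _).comp (T.presheaf.germ ⊤ x trivial).hom) := by
      rw [Ideal.span_le]
      intro g hg
      rw [SetLike.mem_coe, RingHom.mem_ker, RingHom.comp_apply, IsLocalRing.residue_eq_zero_iff,
        IsLocalRing.mem_maximalIdeal, mem_nonunits_iff, ← Scheme.mem_basicOpen T g x trivial]
      exact fun hxg => hxV (hg hxg)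
    have hzero := hI' (a j).2
    rw [RingHom.mem_ker, RingHom.comp_apply, IsLocalRing.residue_eq_zero_iff,
      IsLocalRing.mem_maximalIdeal, mem_nonunits_iff, ← Scheme.mem_basicOpen T (h j) x trivial]
      at hzero
    exact hzero hx
  letI : ∀ j, Module Γ(T, ⊤) Γ(M, T.basicOpen (h j)) := fun j => resModule M (h j)
  haveI : ∀ j, IsScalarTower Γ(T, ⊤) Γ(T, T.basicOpen (h j)) Γ(M, T.basicOpen (h j)) := fun j =>
    isScalarTower_resModule M (h j)
  haveI : ∀ j, IsLocalization.Away (h j) Γ(T, T.basicOpen (h j)) := fun j =>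
    IsAffineOpen.isLocalization_basicOpen hU (h j)
  haveI : ∀ j, IsLocalizedModule (Submonoid.powers (h j)) (resₗ M (h j)) := fun j =>
    isLocalizedModule_resₗ M hU (h j)
  exact Pres.of_span h hh (fun j => Γ(T, T.basicOpen (h j))) (fun j => Γ(M, T.basicOpen (h j)))
    (fun j => resₗ M (h j)) ι κ fun j => hpres j _ (hU.basicOpen (h j)) (hle j)

end Groth.FPUniform
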